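import Mathlib
import Groth.Agent.Lib.Helper1.TildeBC

set_option linter.style.haveILetI false
set_option linter.unusedVariables false
set_option linter.unusedSectionVars false
set_option autoImplicit false
set_option backward.isDefEq.respectTransparency.types false
set_option synthInstance.maxHeartbeats 400000
set_option maxHeartbeats 800000

universe u

/-! helper7: quasi-coherent modules on affine schemes as pullbacks of modules associated with global sections; pullback squares from pushouts of rings of global functions -/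

open AlgebraicGeometry CategoryTheory CategoryTheory.Limits TopologicalSpace Opposite TensorProduct

namespace Groth.Agent.Helper7.NoethApprox

/-- restriction along the inverse of an isomorphism is the pushforward along it -/
noncomputable def resInvIsoPush {Y Z : Scheme.{u}} (e : Y ≅ Z) :
    Scheme.Modules.restrictFunctor e.inv ≅ Scheme.Modules.pushforward e.hom :=
  (Functor.leftUnitor _).symm ≪≫
    Functor.isoWhiskerRight ((Scheme.Modules.pushforwardId Y).symm ≪≫
      (Scheme.Modules.pushforwardCongr e.hom_inv_id).symm ≪≫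
      (Scheme.Modules.pushforwardComp e.hom e.inv).symm) (Scheme.Modules.restrictFunctor e.inv) ≪≫
    Functor.associator _ _ _ ≪≫
    Functor.isoWhiskerLeft (Scheme.Modules.pushforward e.hom)
      (Scheme.Modules.restrictFunctorAdjCounitIso e.inv) ≪≫
    Functor.rightUnitor _

variable {X : Scheme.{u}} [IsAffine X] (F : X.Modules)

/-- the pushforward of `F` to the spectrum of global functions -/
noncomputable abbrev pushSpec : (Spec Γ(X, ⊤)).Modules :=
  (Scheme.Modules.pushforward X.isoSpec.hom).obj F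

instance [F.IsQuasicoherent] : (pushSpec F).IsQuasicoherent :=
  (SheafOfModules.isQuasicoherent (Spec Γ(X, ⊤)).ringCatSheaf).prop_of_iso
    ((resInvIsoPush X.isoSpec).app F)
    (inferInstanceAs ((Scheme.Modules.restrictFunctor X.isoSpec.inv).obj F).IsQuasicoherent)

/-- the module of global sections of the pushforward -/
noncomputable abbrev gammaPush : ModuleCat.{u} Γ(X, ⊤) :=
  (modulesSpecToSheaf.obj (pushSpec F)).presheaf.obj (.op ⊤)

example : (gammaPush F : Type u) = Γ(F, ⊤) := rfl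

/-- the underlying section -/
def toSec (x : gammaPush F) : Γ(F, ⊤) := x

theorem gammaPush_smul_aux (r : Γ(X, ⊤)) (x : gammaPush F) :
    toSec F (r • x) =
      (X.isoSpec.hom.appTop.hom ((Scheme.ΓSpecIso Γ(X, ⊤)).inv.hom r)) • toSec F x := rfl

theorem gammaPush_smul (r : Γ(X, ⊤)) (x : gammaPush F) :
    toSec F (r • x) = r • toSec F x := by
  rw [gammaPush_smul_aux]
  congr 1
  have h2 : X.isoSpec.hom.appTop = (Scheme.ΓSpecIso Γ(X, ⊤)).hom := Scheme.toSpecΓ_appTop X
  rw [h2]
  exact congrArg (fun φ => φ.hom r) (Scheme.ΓSpecIso Γ(X, ⊤)).inv_hom_id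

/-- global sections of the pushforward, as a module over global functions -/
noncomputable def gammaPushEquiv : gammaPush F ≃ₗ[Γ(X, ⊤)] Γ(F, ⊤) where
  toFun x := toSec F x
  invFun x := x
  map_add' _ _ := rfl
  map_smul' r x := gammaPush_smul F r x
  left_inv _ := rfl
  right_inv _ := rfl

/-- a quasi-coherent module on an affine scheme is the pullback of the module associated with
its global sections -/
noncomputable def isoPullbackTilde [F.IsQuasicoherent] :
    F ≅ (Scheme.Modules.pullback X.isoSpec.hom).obj (tilde (ModuleCat.of Γ(X, ⊤) Γ(F, ⊤))) :=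
  ((Scheme.Modules.restrictFunctorAdjCounitIso X.isoSpec.hom).app F).symm ≪≫
    (Scheme.Modules.restrictFunctor X.isoSpec.hom).mapIso (asIso (pushSpec F).fromTildeΓ).symm ≪≫
    (Scheme.Modules.restrictFunctor X.isoSpec.hom).mapIso
      ((tilde.functor Γ(X, ⊤)).mapIso (gammaPushEquiv F).toModuleIso) ≪≫
    (Scheme.Modules.restrictFunctorIsoPullback X.isoSpec.hom).app _

/-- a quasi-coherent module on an affine scheme whose module of global sections is a base change
is a pullback from the spectrum of the smaller ring -/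
theorem nonempty_pullback_tilde_iso [F.IsQuasicoherent] (B₀ : Type u) [CommRing B₀]
    [Algebra B₀ Γ(X, ⊤)] (M₀ : Type u) [AddCommGroup M₀] [Module B₀ M₀] [Module B₀ Γ(F, ⊤)]
    [IsScalarTower B₀ Γ(X, ⊤) Γ(F, ⊤)] (h : M₀ →ₗ[B₀] Γ(F, ⊤)) (hbc : IsBaseChange Γ(X, ⊤) h) :
    Nonempty ((Scheme.Modules.pullback
      (X.isoSpec.hom ≫ Spec.map (CommRingCat.ofHom (algebraMap B₀ Γ(X, ⊤))))).obj
        (tilde (ModuleCat.of B₀ M₀)) ≅ F) := by
  obtain ⟨e1⟩ := Groth.Agent.Helper1.TildeBC.result B₀ Γ(X, ⊤) M₀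
  let e2 : tilde (ModuleCat.of Γ(X, ⊤) (Γ(X, ⊤) ⊗[B₀] M₀)) ≅
      tilde (ModuleCat.of Γ(X, ⊤) Γ(F, ⊤)) :=
    (tilde.functor Γ(X, ⊤)).mapIso hbc.equiv.toModuleIso
  exact ⟨((Scheme.Modules.pullbackComp X.isoSpec.hom
      (Spec.map (CommRingCat.ofHom (algebraMap B₀ Γ(X, ⊤))))).app _).symm ≪≫
    (Scheme.Modules.pullback X.isoSpec.hom).mapIso (e1 ≪≫ e2) ≪≫ (isoPullbackTilde F).symm⟩

set_option backward.isDefEq.respectTransparency false in
/-- a pushout presentation of the ring of global functions gives a pullback square -/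
theorem isPullback_of_isPushout {X S : Scheme.{u}} [IsAffine X] [IsAffine S] (f : X ⟶ S)
    [Algebra Γ(S, ⊤) Γ(X, ⊤)] (hf : algebraMap Γ(S, ⊤) Γ(X, ⊤) = f.appTop.hom)
    (A₀ B₀ : Type u) [CommRing A₀] [CommRing B₀] [Algebra A₀ B₀] [Algebra A₀ Γ(S, ⊤)]
    [Algebra B₀ Γ(X, ⊤)] [Algebra A₀ Γ(X, ⊤)] [IsScalarTower A₀ Γ(S, ⊤) Γ(X, ⊤)]
    [IsScalarTower A₀ B₀ Γ(X, ⊤)] [Algebra.IsPushout A₀ Γ(S, ⊤) B₀ Γ(X, ⊤)] :
    IsPullback (X.isoSpec.hom ≫ Spec.map (CommRingCat.ofHom (algebraMap B₀ Γ(X, ⊤)))) f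
      (Spec.map (CommRingCat.ofHom (algebraMap A₀ B₀)))
      (S.isoSpec.hom ≫ Spec.map (CommRingCat.ofHom (algebraMap A₀ Γ(S, ⊤)))) := by
  have h1 := CommRingCat.isPushout_of_isPushout A₀ Γ(S, ⊤) B₀ Γ(X, ⊤)
  have h2 := isPullback_SpecMap_of_isPushout _ _ _ _ h1
  have h0 : CommRingCat.ofHom (algebraMap Γ(S, ⊤) Γ(X, ⊤)) = f.appTop := by
    rw [hf]; rfl
  rw [h0] at h2
  have h3 : IsPullback X.toSpecΓ f (Spec.map f.appTop) S.toSpecΓ :=
    IsPullback.of_horiz_isIso ⟨(Scheme.toSpecΓ_naturality f).symm⟩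
  exact h3.paste_horiz h2.flip

end Groth.Agent.Helper7.NoethApprox
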