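import Mathlib
import Groth.Agent.Lib.Lead.FO1

set_option linter.style.haveILetI false
set_option linter.unusedVariables false
set_option linter.unusedSectionVars false
set_option autoImplicit false
set_option backward.isDefEq.respectTransparency.types false
set_option synthInstance.maxHeartbeats 400000
set_option maxHeartbeats 800000

universe u

/-! helper7: flatness over the base of the module associated with a flat module -/

open AlgebraicGeometry CategoryTheory CategoryTheory.Limits TopologicalSpace Opposite TensorProduct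

namespace Groth.Agent.Helper7.NoethApprox

section

variable {A B : CommRingCat.{u}} (φ : A ⟶ B) (M : ModuleCat.{u} B)

theorem appLE_top_ΓSpecIso_inv (a : A) (hUV) :
    ((Spec.map φ).appLE ⊤ ⊤ hUV).hom ((Scheme.ΓSpecIso A).inv.hom a) =
      (Scheme.ΓSpecIso B).inv.hom (φ.hom a) := by
  have h := Scheme.ΓSpecIso_inv_naturality φ
  have h2 := congrArg (fun ψ => ψ.hom a) h
  simp only [CommRingCat.hom_comp, RingHom.coe_comp, Function.comp_apply] at h2
  rw [h2]
  have h3 : (Spec.map φ).appLE ⊤ ⊤ hUV = (Spec.map φ).appTop := by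
    simp [Scheme.Hom.appLE, Scheme.Hom.appTop]
  rw [h3]

/-- sections of the associated module are flat over global functions of the base -/
theorem flat_sectionsOver_tilde (hUV : (⊤ : (Spec B).Opens) ≤ (Spec.map φ) ⁻¹ᵁ ⊤)
    (hflat : Module.Flat A ((ModuleCat.restrictScalars φ.hom).obj M)) :
    @Module.Flat Γ(Spec A, ⊤) Γ(tilde M, ⊤) _ _
      (Groth.Agent.Lead.FO.sectionsOver (Spec.map φ) (tilde M) hUV) := by
  letI m₁ := Groth.Agent.Lead.FO.sectionsOver (Spec.map φ) (tilde M) hUV
  letI mA : Module A Γ(tilde M, ⊤) := Module.compHom _ φ.hom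
  let e : M ≃ₗ[B] Γ(tilde M, ⊤) := (tilde.isoTop M).toLinearEquiv
  let eA : ((ModuleCat.restrictScalars φ.hom).obj M) ≃ₗ[A] Γ(tilde M, ⊤) :=
    { toFun := fun m => e m
      invFun := fun y => e.symm y
      map_add' := fun x y => e.map_add x y
      map_smul' := fun a m => e.map_smul (φ.hom a) m
      left_inv := fun m => e.symm_apply_apply m
      right_inv := fun y => e.apply_symm_apply y }
  haveI := hflat
  haveI flatA : Module.Flat A Γ(tilde M, ⊤) := Module.Flat.of_linearEquiv eA.symm
  letI alg : Algebra A Γ(Spec A, ⊤) := (Scheme.ΓSpecIso A).inv.hom.toAlgebra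
  have hbij : Function.Bijective (algebraMap A Γ(Spec A, ⊤)) :=
    (ConcreteCategory.isIso_iff_bijective (Scheme.ΓSpecIso A).inv).mp inferInstance
  haveI : IsLocalization (⊥ : Submonoid A) Γ(Spec A, ⊤) :=
    IsLocalization.of_le_isUnit_of_bijective (by
      rintro _ ⟨y, hy, rfl⟩
      rw [Submonoid.mem_bot.mp hy, map_one]
      exact isUnit_one) hbij
  haveI : IsScalarTower A Γ(Spec A, ⊤) Γ(tilde M, ⊤) :=
    IsScalarTower.of_algebraMap_smul fun a y => by
      show ((Spec.map φ).appLE ⊤ ⊤ hUV).hom ((Scheme.ΓSpecIso A).inv.hom a) • y = _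
      rw [appLE_top_ΓSpecIso_inv]
      rfl
  exact (Module.flat_iff_of_isLocalization Γ(Spec A, ⊤) (⊥ : Submonoid A) Γ(tilde M, ⊤)).mpr flatA

/-- the module associated with a module flat over the base ring is flat over the base scheme -/
theorem isFlatOver_tilde (hflat : Module.Flat A ((ModuleCat.restrictScalars φ.hom).obj M)) :
    FlatMod.IsFlatOver (Spec.map φ) (tilde M) := by
  intro x
  have hU : IsAffineOpen (⊤ : (Spec B).Opens) := isAffineOpen_top _
  have hV : IsAffineOpen (⊤ : (Spec A).Opens) := isAffineOpen_top _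
  have hUV : (⊤ : (Spec B).Opens) ≤ (Spec.map φ) ⁻¹ᵁ ⊤ := le_rfl
  exact (Groth.Agent.Lead.FO.isFlatOverAt_iff_flat_stalkOver (Spec.map φ) (tilde M) hV hUV
      ⟨x, trivial⟩).2
    (Groth.Agent.Lead.FO.flat_stalkOver_of_flat_sectionsOver (Spec.map φ) (tilde M) hU hUV
      ⟨x, trivial⟩ (flat_sectionsOver_tilde φ M hUV hflat))

end

end Groth.Agent.Helper7.NoethApprox
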