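import Mathlib
import Groth.Agent.Lib.Helper7.NoethApprox.Aff
import Groth.Agent.Lib.Helper7.NoethApprox.Flat
import Groth.Agent.Lib.Helper1.TildeFT
import Groth.Agent.Lib.Lead.FP2
import Groth.Agent.Lib.Helper3.ColimFlat10

set_option linter.style.haveILetI false
set_option linter.unusedVariables false
set_option linter.unusedSectionVars false
set_option autoImplicit false
set_option backward.isDefEq.respectTransparency.types false
set_option synthInstance.maxHeartbeats 400000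
set_option maxHeartbeats 800000

universe u

/-! helper7: Noetherian approximation for affine finitely presented morphisms with f.p. modules (S9760, S9761) -/

open AlgebraicGeometry CategoryTheory CategoryTheory.Limits TopologicalSpace Opposite TensorProduct

namespace Groth.Agent.Helper7.NoethApprox

/-- the common core: a model of the rings of global functions and of the module of global
sections gives a model of the morphism and of the module -/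
theorem core {X S : Scheme.{u}} (f : X ⟶ S) [IsAffine X] [IsAffine S] (F : X.Modules)
    [F.IsQuasicoherent] [Algebra Γ(S, ⊤) Γ(X, ⊤)]
    (hf : algebraMap Γ(S, ⊤) Γ(X, ⊤) = f.appTop.hom)
    (A₀ B₀ : Type u) [CommRing A₀] [CommRing B₀] [Algebra A₀ B₀] [Algebra A₀ Γ(S, ⊤)]
    [Algebra B₀ Γ(X, ⊤)] [Algebra A₀ Γ(X, ⊤)] [IsScalarTower A₀ Γ(S, ⊤) Γ(X, ⊤)]
    [IsScalarTower A₀ B₀ Γ(X, ⊤)] [Algebra.IsPushout A₀ Γ(S, ⊤) B₀ Γ(X, ⊤)]
    (M₀ : Type u) [AddCommGroup M₀] [Module B₀ M₀] [Module B₀ Γ(F, ⊤)]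
    [IsScalarTower B₀ Γ(X, ⊤) Γ(F, ⊤)] (h : M₀ →ₗ[B₀] Γ(F, ⊤)) (hbc : IsBaseChange Γ(X, ⊤) h)
    (hA₀ : Algebra.FiniteType ℤ A₀) (hB₀ : Algebra.FiniteType A₀ B₀) (hfin : Module.Finite B₀ M₀) :
    ∃ (X₀ S₀ : Scheme.{u}) (f₀ : X₀ ⟶ S₀) (g : S ⟶ S₀) (g' : X ⟶ X₀), IsAffine X₀ ∧ IsAffine S₀ ∧
      IsPullback g' f f₀ g ∧ Algebra.FiniteType ℤ Γ(S₀, ⊤) ∧ LocallyOfFiniteType f₀ ∧
      ∃ F₀ : X₀.Modules, Coh.IsCoh F₀ ∧
        (∀ [Module A₀ M₀] [IsScalarTower A₀ B₀ M₀], Module.Flat A₀ M₀ → FlatMod.IsFlatOver f₀ F₀) ∧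
        Nonempty ((Scheme.Modules.pullback g').obj F₀ ≅ F) := by
  refine ⟨Spec (CommRingCat.of B₀), Spec (CommRingCat.of A₀),
    Spec.map (CommRingCat.ofHom (algebraMap A₀ B₀)),
    S.isoSpec.hom ≫ Spec.map (CommRingCat.ofHom (algebraMap A₀ Γ(S, ⊤))),
    X.isoSpec.hom ≫ Spec.map (CommRingCat.ofHom (algebraMap B₀ Γ(X, ⊤))),
    inferInstance, inferInstance, isPullback_of_isPushout f hf A₀ B₀, ?_, ?_,
    tilde (ModuleCat.of B₀ M₀), ⟨inferInstance, ?_⟩, ?_,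
    nonempty_pullback_tilde_iso F B₀ M₀ h hbc⟩
  · exact hA₀.equiv (Scheme.ΓSpecIso (CommRingCat.of A₀)).commRingCatIsoToRingEquiv.symm.toIntAlgEquiv
  · exact HasRingHomProperty.Spec_iff.mpr (RingHom.finiteType_algebraMap.mpr hB₀)
  · exact Groth.Agent.Helper1.TildeFT.tilde_isFiniteType (CommRingCat.of B₀) (ModuleCat.of B₀ M₀) hfin
  · intro _ _ hfl
    apply isFlatOver_tilde
    let e : M₀ ≃ₗ[A₀] ((ModuleCat.restrictScalars (CommRingCat.ofHom (algebraMap A₀ B₀)).hom).obj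
        (ModuleCat.of B₀ M₀)) :=
      { toFun := fun m => m
        invFun := fun m => m
        map_add' := fun _ _ => rfl
        map_smul' := fun a m => (algebraMap_smul B₀ a m).symm
        left_inv := fun _ => rfl
        right_inv := fun _ => rfl }
    exact Module.Flat.of_linearEquiv e.symm

theorem appLE_top_top {X S : Scheme.{u}} (f : X ⟶ S) (hUV : (⊤ : X.Opens) ≤ f ⁻¹ᵁ ⊤) :
    f.appLE ⊤ ⊤ hUV = f.appTop := by
  simp [Scheme.Hom.appLE, Scheme.Hom.appTop]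

/-- **S9761**: a finitely presented module flat over the base, on a finitely presented morphism
of affine schemes, descends with its flatness to a base of finite type over the integers. -/
theorem S9761_main {X S : Scheme.{u}} (f : X ⟶ S) [IsAffine X] [IsAffine S]
    [LocallyOfFinitePresentation f] (F : X.Modules) [F.IsQuasicoherent] (hF : CohB1.IsFP F)
    (hfl : FlatMod.IsFlatOver f F) :
    ∃ (X₀ S₀ : Scheme.{u}) (f₀ : X₀ ⟶ S₀) (g : S ⟶ S₀) (g' : X ⟶ X₀), IsAffine X₀ ∧ IsAffine S₀ ∧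
      IsPullback g' f f₀ g ∧ Algebra.FiniteType ℤ Γ(S₀, ⊤) ∧ LocallyOfFiniteType f₀ ∧
      ∃ F₀ : X₀.Modules, Coh.IsCoh F₀ ∧ FlatMod.IsFlatOver f₀ F₀ ∧
        Nonempty ((Scheme.Modules.pullback g').obj F₀ ≅ F) := by
  have h2 : RingHom.FinitePresentation f.appTop.hom :=
    (HasRingHomProperty.iff_of_isAffine (P := @LocallyOfFinitePresentation)).mp inferInstance
  algebraize [f.appTop.hom]
  have hU : IsAffineOpen (⊤ : X.Opens) := isAffineOpen_top X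
  have hV : IsAffineOpen (⊤ : S.Opens) := isAffineOpen_top S
  have hUV : (⊤ : X.Opens) ≤ f ⁻¹ᵁ ⊤ := le_rfl
  letI mA : Module Γ(S, ⊤) Γ(F, ⊤) := Groth.Agent.Lead.FO.sectionsOver f F hUV
  haveI : IsScalarTower Γ(S, ⊤) Γ(X, ⊤) Γ(F, ⊤) :=
    IsScalarTower.of_algebraMap_smul fun r m => by
      show f.appTop.hom r • m = (f.appLE ⊤ ⊤ hUV).hom r • m
      rw [appLE_top_top]
  haveI : Module.FinitePresentation Γ(X, ⊤) Γ(F, ⊤) :=
    Groth.Agent.Lead.FP.fp_sections_of_isFP F hF hU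
  haveI : Module.Flat Γ(S, ⊤) Γ(F, ⊤) :=
    Groth.Agent.Lead.FO.flat_sectionsOver_of_isFlatOverAt f F hU hV hUV (fun z => hfl z.1)
  obtain ⟨A₀, _, _, B₀, _, _, _, _, _, _, M₀, _, _, _, _, _, _, h, hA₀, hB₀, hfin, hflM,
    hpush, hbc⟩ := Groth.Agent.Helper3.ColimFlat.S9456_main Γ(S, ⊤) Γ(X, ⊤) Γ(F, ⊤)
  haveI := hpush
  obtain ⟨X₀, S₀, f₀, g, g', hX₀, hS₀, hpb, hft, hlft, F₀, hcoh, hflat, hiso⟩ :=
    core f F rfl A₀ B₀ M₀ h hbc hA₀ hB₀ hfin
  exact ⟨X₀, S₀, f₀, g, g', hX₀, hS₀, hpb, hft, hlft, F₀, hcoh, hflat hflM, hiso⟩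

/-- **S9760**: a finitely presented module on a finitely presented morphism of affine schemes
descends to a base of finite type over the integers. -/
theorem S9760_main {X S : Scheme.{u}} (f : X ⟶ S) [IsAffine X] [IsAffine S]
    [LocallyOfFinitePresentation f] (F : X.Modules) [F.IsQuasicoherent] (hF : CohB1.IsFP F) :
    ∃ (X₀ S₀ : Scheme.{u}) (f₀ : X₀ ⟶ S₀) (g : S ⟶ S₀) (g' : X ⟶ X₀), IsAffine X₀ ∧ IsAffine S₀ ∧
      IsPullback g' f f₀ g ∧ Algebra.FiniteType ℤ Γ(S₀, ⊤) ∧ LocallyOfFiniteType f₀ ∧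
      ∃ F₀ : X₀.Modules, Coh.IsCoh F₀ ∧
        Nonempty ((Scheme.Modules.pullback g').obj F₀ ≅ F) := by
  have h2 : RingHom.FinitePresentation f.appTop.hom :=
    (HasRingHomProperty.iff_of_isAffine (P := @LocallyOfFinitePresentation)).mp inferInstance
  algebraize [f.appTop.hom]
  have hU : IsAffineOpen (⊤ : X.Opens) := isAffineOpen_top X
  haveI : Module.FinitePresentation Γ(X, ⊤) Γ(F, ⊤) :=
    Groth.Agent.Lead.FP.fp_sections_of_isFP F hF hU
  obtain ⟨A₀, hA₀fg, B₀, _, _, _, _, M₀, _, _, _, _, h, hfp, hfin, hpush, hbc⟩ :=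
    Groth.Agent.Helper3.ColimFlat.exists_model Γ(S, ⊤) Γ(X, ⊤) Γ(F, ⊤)
  haveI := hpush
  have hA₀ : Algebra.FiniteType ℤ A₀ := (Subalgebra.fg_iff_finiteType A₀).mp hA₀fg
  have hB₀ : Algebra.FiniteType A₀ B₀ := inferInstance
  obtain ⟨X₀, S₀, f₀, g, g', hX₀, hS₀, hpb, hft, hlft, F₀, hcoh, hflat, hiso⟩ :=
    core f F rfl A₀ B₀ M₀ h hbc hA₀ hB₀ hfin
  exact ⟨X₀, S₀, f₀, g, g', hX₀, hS₀, hpb, hft, hlft, F₀, hcoh, hiso⟩

end Groth.Agent.Helper7.NoethApprox
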